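import Groth.Agent.Lib.IdealACC20.Chain
import Groth.Agent.Lib.InjLocal20.Zorn
import Groth.Agent.Lib.OX.ClosedPush

/-!
# Direct sums of injective modules on a locally Noetherian scheme
-/

set_option autoImplicit false
set_option maxHeartbeats 400000
set_option linter.style.haveILetI false
set_option backward.isDefEq.respectTransparency false

universe u

open CategoryTheory CategoryTheory.Limits AlgebraicGeometry Opposite TopologicalSpace

namespace GrothLib.InjCoprod20

variable {X : Scheme.{u}}

theorem wellFoundedGT_gen [IsLocallyNoetherian X] (U : X.Opens) (hU : IsAffineOpen U) :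
    WellFoundedGT (Subobject (OX.gen X U)) := by
  haveI : IsAffine (U : Scheme.{u}) := hU
  haveI : IsLocallyNoetherian (U : Scheme.{u}) := isLocallyNoetherian_of_isOpenImmersion U.ι
  haveI : IsNoetherian (U : Scheme.{u}) := {}
  rw [wellFoundedGT_iff_monotone_chain_condition]
  intro c
  let e := Subobject.mapIsoToOrderIso (OX.genExtZeroIso U)
  obtain ⟨n, hn⟩ := IdealACC20.exists_stationary_extZeroUnit U.ι
    ⟨fun k => e (c k), fun a b h => e.monotone (c.mono h)⟩
  exact ⟨n, fun m hm => e.injective (hn m hm)⟩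

variable {ι : Type u} (I : ι → X.Modules)

/-- The endomorphism of a direct sum killing finitely many summands. -/
noncomputable def killMap (s : Finset ι) : ∐ I ⟶ ∐ I := by
  classical exact Sigma.desc fun i => if i ∈ s then 0 else Sigma.ι I i

theorem ι_killMap_of_mem {s : Finset ι} {i : ι} (h : i ∈ s) : Sigma.ι I i ≫ killMap I s = 0 := by
  classical rw [killMap, Sigma.ι_desc, if_pos h]

theorem ι_killMap_of_notMem {s : Finset ι} {i : ι} (h : i ∉ s) :
    Sigma.ι I i ≫ killMap I s = Sigma.ι I i := by
  classical rw [killMap, Sigma.ι_desc, if_neg h]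

theorem killMap_comp {s t : Finset ι} (h : s ⊆ t) : killMap I s ≫ killMap I t = killMap I t := by
  refine Sigma.hom_ext _ _ fun i => ?_
  by_cases hi : i ∈ s
  · rw [← Category.assoc, ι_killMap_of_mem I hi, zero_comp, ι_killMap_of_mem I (h hi)]
  · rw [← Category.assoc, ι_killMap_of_notMem I hi]

/-- Every element of a stalk of a direct sum lives in finitely many summands. -/
theorem exists_killMap_eq_zero (x : X) (e : (OX.stalk x).obj (∐ I)) :
    ∃ t : Finset ι, (OX.stalk x).map (killMap I t) e = 0 := by
  classical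
  have hmono : ∀ {s t : Finset ι}, s ⊆ t → ∀ e : (OX.stalk x).obj (∐ I),
      (OX.stalk x).map (killMap I s) e = 0 → (OX.stalk x).map (killMap I t) e = 0 := by
    intro s t h e he
    rw [← killMap_comp I h, Functor.map_comp, ConcreteCategory.comp_apply, he]
    exact map_zero _
  let S : Submodule (X.presheaf.stalk x) ((OX.stalk x).obj (∐ I)) :=
    { carrier := {e | ∃ t : Finset ι, (OX.stalk x).map (killMap I t) e = 0}
      zero_mem' := ⟨∅, map_zero _⟩
      add_mem' := by
        rintro a b ⟨s, hs⟩ ⟨t, ht⟩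
        refine ⟨s ∪ t, (map_add _ a b).trans ?_⟩
        rw [hmono Finset.subset_union_left a hs, hmono Finset.subset_union_right b ht, add_zero]
      smul_mem' := by
        rintro c a ⟨s, hs⟩
        exact ⟨s, (((OX.stalk x).map (killMap I s)).hom.map_smul c a).trans (by erw [hs, smul_zero])⟩ }
  have hS : ModuleCat.ofHom S.mkQ = 0 := by
    haveI : PreservesColimitsOfSize.{u, u} (OX.stalk x) := (OX.stalkSkyAdj x).leftAdjoint_preservesColimits
    refine (isColimitOfPreserves (OX.stalk x) (colimit.isColimit (Discrete.functor I))).hom_ext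
      fun i => ?_
    rw [comp_zero]
    refine ModuleCat.hom_ext (LinearMap.ext fun a => ?_)
    refine (Submodule.Quotient.mk_eq_zero S).2 ⟨{i.as}, ?_⟩
    refine (ConcreteCategory.congr_hom ((OX.stalk x).map_comp (Sigma.ι I i.as) (killMap I {i.as})).symm a).trans ?_
    rw [ι_killMap_of_mem I (Finset.mem_singleton_self _), Functor.map_zero]
    rfl
  exact (Submodule.Quotient.mk_eq_zero S).1 (ConcreteCategory.congr_hom hS e)

/-- Morphisms from subobjects of a Noetherian object into a direct sum of injectives extend. -/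
theorem exists_extension (hI : ∀ i, Injective (I i)) {G P : X.Modules} [WellFoundedGT (Subobject G)]
    (m : P ⟶ G) [Mono m] (g : P ⟶ ∐ I) : ∃ h : G ⟶ ∐ I, m ≫ h = g := by
  classical
  haveI : WellFoundedGT (Subobject P) :=
    (Subobject.map m).monotone.strictMono_of_injective (Subobject.map_obj_injective m) |>.wellFoundedGT
  obtain ⟨_, ⟨s, rfl⟩, hs⟩ := wellFounded_gt.has_min
    (Set.range fun s : Finset ι => kernelSubobject (g ≫ killMap I s)) ⟨_, ⟨∅, rfl⟩⟩
  have hz : g ≫ killMap I s = 0 := by
    rw [OX.eq_zero_iff]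
    intro x
    refine ModuleCat.hom_ext (LinearMap.ext fun a => ?_)
    obtain ⟨t, ht⟩ := exists_killMap_eq_zero I x ((OX.stalk x).map g a)
    have hle : kernelSubobject (g ≫ killMap I s) ≤ kernelSubobject (g ≫ killMap I (s ∪ t)) :=
      le_kernelSubobject _ _ (by
        rw [← killMap_comp I (Finset.subset_union_left (s₂ := t)), ← Category.assoc g,
          ← Category.assoc, kernelSubobject_arrow_comp, zero_comp])
    have heq : kernelSubobject (g ≫ killMap I s) = kernelSubobject (g ≫ killMap I (s ∪ t)) :=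
      (eq_or_lt_of_le hle).resolve_right (hs _ ⟨_, rfl⟩)
    have ha : (OX.stalk x).map (g ≫ killMap I (s ∪ t)) a = 0 := by
      rw [← killMap_comp I (Finset.subset_union_right (s₁ := s)), ← Category.assoc, Functor.map_comp,
        ConcreteCategory.comp_apply, Functor.map_comp, ConcreteCategory.comp_apply, ht]
      exact map_zero _
    have hex : (ShortComplex.mk (kernel.ι (g ≫ killMap I (s ∪ t)))
        (g ≫ killMap I (s ∪ t)) (kernel.condition _)).Exact := ShortComplex.exact_kernel _
    obtain ⟨b, hb⟩ := (ShortComplex.moduleCat_exact_iff _).1 (hex.map (OX.stalk x)) a ha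
    change (OX.stalk x).map (g ≫ killMap I s) a = 0
    rw [← hb]
    refine (ConcreteCategory.congr_hom ((OX.stalk x).map_comp _ _).symm b).trans ?_
    have : kernel.ι (g ≫ killMap I (s ∪ t)) ≫ g ≫ killMap I s = 0 := by
      rw [← kernelSubobject_arrow', ← Subobject.ofLE_arrow heq.ge, Category.assoc, Category.assoc,
        kernelSubobject_arrow_comp, comp_zero, comp_zero]
    rw [this, Functor.map_zero]
    rfl
  let π : ∀ i, (∐ I) ⟶ I i := fun i => Sigma.desc fun k => if h : k = i then eqToHom (by rw [h]) else 0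
  have hdec : 𝟙 (∐ I) - killMap I s = ∑ i ∈ s, π i ≫ Sigma.ι I i := by
    refine Sigma.hom_ext _ _ fun k => ?_
    rw [Preadditive.comp_sub, Category.comp_id, Preadditive.comp_sum]
    by_cases hk : k ∈ s
    · rw [ι_killMap_of_mem I hk, sub_zero, Finset.sum_eq_single k]
      · simp [π]
      · intro b _ hb
        simp [π, Ne.symm hb]
      · exact fun h => absurd hk h
    · rw [ι_killMap_of_notMem I hk, sub_self, Finset.sum_eq_zero]
      intro b hb
      have : k ≠ b := fun h => hk (h ▸ hb)
      simp [π, this]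
  have hg : g = ∑ i ∈ s, (g ≫ π i) ≫ Sigma.ι I i := by
    have h := congrArg (g ≫ ·) hdec
    simpa [Preadditive.comp_sub, Preadditive.comp_sum, hz] using h
  refine ⟨∑ i ∈ s, (Injective.factorThru (J := I i) (g ≫ π i) m) ≫ Sigma.ι I i, ?_⟩
  rw [Preadditive.comp_sum]
  conv_rhs => rw [hg]
  simp

/-- A direct sum of injective modules is injective. -/
theorem injective_coproduct [IsLocallyNoetherian X] (hI : ∀ i, Injective (I i)) : Injective (∐ I) := by
  classical
  refine InjLocal20.injective_of_step (∐ I) fun {P B} m _ g hm => ?_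
  have hc : cokernel.π m ≠ 0 := fun h => hm (by
    haveI := Abelian.epi_of_cokernel_π_eq_zero m h
    exact isIso_of_mono_of_epi m)
  obtain ⟨U, hU, b, hb⟩ : ∃ (U : X.Opens) (_ : IsAffineOpen U) (b : Γ(B, U)),
      (cokernel.π m).app U b ≠ 0 := by
    by_contra! h
    refine hc ((OX.eq_zero_iff _).2 fun x => ModuleCat.hom_ext (LinearMap.ext fun e => ?_))
    obtain ⟨W, hW, q, rfl⟩ := OX.germ_exists (DCoh.toP.obj B) e
    obtain ⟨_, ⟨U, hU, rfl⟩, hxU, hUW⟩ :=
      X.isBasis_affineOpens.exists_subset_of_mem_open (show x ∈ (W : Set X) from hW) W.2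
    refine (congrArg _ (OX.germ_map (DCoh.toP.obj B) (homOfLE (show U ≤ W from hUW)) hxU q).symm).trans ?_
    refine (OX.stalkPre_map_germ (DCoh.toP.map (cokernel.π m)) U hxU _).trans ?_
    exact (congrArg (OX.germ (DCoh.toP.obj (cokernel m)) U hxU) (h U hU _)).trans (map_zero _)
  let u : OX.gen X U ⟶ B := (OX.genHomEquiv U B).symm b
  haveI := wellFoundedGT_gen U hU
  obtain ⟨h, hh⟩ := exists_extension I hI (pullback.fst u m) (pullback.snd u m ≫ g)
  let φ : OX.gen X U ⊞ P ⟶ B := biprod.desc u m
  let ψ : OX.gen X U ⊞ P ⟶ ∐ I := biprod.desc h g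
  have hker : kernel.ι φ ≫ ψ = 0 := by
    have h0 := kernel.condition φ
    let v := kernel.ι φ
    have e1 : (v ≫ biprod.fst) ≫ u = (-(v ≫ biprod.snd)) ≫ m := by
      rw [Preadditive.neg_comp, eq_neg_iff_add_eq_zero]
      simp only [φ, biprod.desc_eq, Preadditive.comp_add] at h0
      simpa only [Category.assoc] using h0
    have e2 := congrArg (pullback.lift _ _ e1 ≫ ·) hh
    simp only [pullback.lift_fst_assoc, pullback.lift_snd_assoc, Preadditive.neg_comp] at e2
    simp only [ψ, biprod.desc_eq, Preadditive.comp_add]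
    rw [← Category.assoc v, ← Category.assoc v, e2]
    exact neg_add_cancel _
  obtain ⟨k, hk⟩ := InjLocal20.exists_factor_image φ ψ hker
  let t : P ⟶ Abelian.image φ := biprod.inr ≫ Abelian.factorThruImage φ
  refine ⟨_, Abelian.image.ι φ, t, k, inferInstance, ?_, ?_, ?_⟩
  · simp [t, φ]
  · simp [t, ψ, hk]
  · intro ht
    apply hb
    have hu : u = (biprod.inl ≫ Abelian.factorThruImage φ ≫ inv t) ≫ m := by
      have : t ≫ Abelian.image.ι φ = m := by simp [t, φ]
      conv_rhs => rw [← this]
      simp [φ]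
    have h1 : (cokernel.π m).app U b = OX.genHomEquiv U _ (u ≫ cokernel.π m) := by
      rw [OX.genHomEquiv_comp, Equiv.apply_symm_apply]
      rfl
    rw [h1, hu, Category.assoc, cokernel.condition, comp_zero]
    exact (OX.genHomEquiv_comp U (0 : OX.gen X U ⟶ B) (0 : B ⟶ cokernel m) |> fun e => by
      rw [zero_comp] at e
      exact e.trans rfl)

end GrothLib.InjCoprod20
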